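import Groth.Agent.SmDefLib.Cech
import Mathlib.Algebra.Homology.ShortComplex.Ab

/-!
# First Čech cohomology from a short exact sequence with acyclic middle term
-/

set_option autoImplicit false
set_option linter.unusedSectionVars false
universe u

open CategoryTheory CategoryTheory.Limits TopologicalSpace Opposite
open QCohLib (AbSh HU)
open CechLib

noncomputable section

namespace CechDefoLib

variable {X : TopCat.{u}} {ι : Type u} (U : ι → Opens X)

theorem dd_dd (P : (Opens X)ᵒᵖ ⥤ AddCommGrpCat.{u}) (n : ℕ) (c : Cochain U P n) :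
    dd U P (n + 1) (dd U P n c) = 0 := by
  obtain ⟨x, rfl⟩ := (cochainEquiv U P n).surjective c
  rw [← ev_d, ← ev_d]
  refine (congrArg (cochainEquiv U P (n + 2)) ?_).trans (map_zero _)
  exact ConcreteCategory.congr_hom ((cx U P).d_comp_d n (n + 1) (n + 2)) x

theorem nonempty_coker_equiv {S : ShortComplex (AbSh X)} (hS : S.ShortExact) (V : Opens X)
    (hcov : ⨆ i, U i = V) (hA : ∀ i, Subsingleton (HU S.X₁ 1 (U i))) (hB : Subsingleton (HU S.X₂ 1 V)) :
    Nonempty ((S.X₃.obj.obj (op V) ⧸ (S.g.hom.app (op V)).hom.range) ≃+ (cx U S.X₁.obj).homology 1) := by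
  subst hcov
  haveI := hS.mono_f
  let gC : Cochain U S.X₂.obj 0 →+ Cochain U S.X₃.obj 0 :=
    AddMonoidHom.mk' (fun b J => S.g.hom.app (op (cap U J)) (b J)) fun a b => funext fun J => map_add _ _ _
  let W : AddSubgroup (Cochain U S.X₂.obj 0) := ((dd U S.X₃.obj 0).comp gC).ker
  let rho' : S.X₃.obj.obj (op (⨆ i, U i)) →+ Cochain U S.X₃.obj 0 :=
    AddMonoidHom.mk' (fun s J => rs S.X₃.obj (cap_le_iSup U J) s) fun a b => funext fun J => map_add _ _ _
  have hrho : ∀ s, cochainEquiv U S.X₃.obj 0 (rho U S.X₃ s) = rho' s :=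
    fun s => funext fun J => cochainEquiv_rho U S.X₃ s J
  have hinj : Function.Injective rho' := fun s t h =>
    rho_injective U S.X₃ ((cochainEquiv U S.X₃.obj 0).injective (((hrho s).trans h).trans (hrho t).symm))
  have hW : ∀ b : W, ∃ s, rho' s = gC b.1 := fun b => by
    obtain ⟨s, hs⟩ := exists_rho_eq U S.X₃ (gC b.1) b.2
    exact ⟨s, (hrho s).symm.trans hs⟩
  choose R hR using hW
  let φ₁ : W →+ S.X₃.obj.obj (op (⨆ i, U i)) ⧸ (S.g.hom.app (op (⨆ i, U i))).hom.range :=
    (QuotientAddGroup.mk' _).comp (AddMonoidHom.mk' R fun a b => hinj (by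
      rw [map_add, hR, hR, hR]
      exact map_add gC _ _))
  have h₁ : Function.Surjective φ₁ := fun q => by
    obtain ⟨s, rfl⟩ := QuotientAddGroup.mk_surjective q
    have hl : ∀ J : Fin 1 → ι, ∃ t, S.g.hom.app (op (cap U J)) t = rho' s J := fun J => by
      have e : cap U J = U (J 0) := le_antisymm (cap_le U J 0)
        ((le_cap_iff U).2 fun a => by rw [Subsingleton.elim a 0])
      haveI : Subsingleton (HU S.X₁ 1 (cap U J)) := by rw [e]; exact hA _
      exact QCohLib.exists_lift_of_subsingleton hS _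
    choose b hb using hl
    have hgb : gC b = rho' s := funext hb
    have hbW : b ∈ W := by
      show dd U S.X₃.obj 0 (gC b) = 0
      rw [hgb, ← hrho, ← ev_d]
      exact (congrArg _ (ConcreteCategory.congr_hom (rho_d U S.X₃) s)).trans (map_zero _)
    exact ⟨⟨b, hbW⟩, congrArg _ (hinj ((hR ⟨b, hbW⟩).trans hgb))⟩
  -- the cocycle
  have hWc : ∀ b : W, ∃ c : Cochain U S.X₁.obj 1,
      (fun J => S.f.hom.app (op (cap U J)) (c J)) = dd U S.X₂.obj 0 b.1 := fun b => by
    have h : ∀ J : Fin 2 → ι, ∃ y, S.f.hom.app (op (cap U J)) y = dd U S.X₂.obj 0 b.1 J := fun J =>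
      CechLib.exists_of_app_eq_zero hS _ _ ((SmDefLib.app_dd U S.X₂ S.g 0 b.1 J).trans (congrFun b.2 J))
    choose c hc using h
    exact ⟨c, funext hc⟩
  choose C hC using hWc
  have finj : ∀ (n : ℕ) (c c' : Cochain U S.X₁.obj n), (fun J => S.f.hom.app (op (cap U J)) (c J)) =
      (fun J => S.f.hom.app (op (cap U J)) (c' J)) → c = c' := fun n c c' h =>
    funext fun J => CechLib.app_injective S.f _ (congrFun h J)
  have fdd : ∀ (n : ℕ) (c : Cochain U S.X₁.obj n),
      (fun J => S.f.hom.app (op (cap U J)) (dd U S.X₁.obj n c J)) =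
        dd U S.X₂.obj n (fun K => S.f.hom.app (op (cap U K)) (c K)) :=
    fun n c => funext fun J => SmDefLib.app_dd U S.X₁ S.f n c J
  have hC0 : ∀ b, dd U S.X₁.obj 1 (C b) = 0 := fun b => finj _ _ _ (by
    rw [fdd, hC, dd_dd]
    funext J
    exact (map_zero _).symm)
  let sc := (cx U S.X₁.obj).sc' 0 1 2
  let eh : (cx U S.X₁.obj).homology 1 ≃+ sc.g.hom.ker ⧸ AddMonoidHom.range sc.abToCycles :=
    (((cx U S.X₁.obj).homologyIsoSc' 0 1 2 (by simp) (by simp)) ≪≫ sc.abHomologyIso).addCommGroupIsoToAddEquiv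
  let e₁ := cochainEquiv U S.X₁.obj 1
  have hz : ∀ b, (e₁.symm (C b)) ∈ sc.g.hom.ker := fun b => by
    apply (cochainEquiv U S.X₁.obj 2).injective
    refine (ev_d U S.X₁.obj 1 (e₁.symm (C b))).trans ?_
    rw [AddEquiv.apply_symm_apply, hC0]
    exact (map_zero (cochainEquiv U S.X₁.obj 2)).symm
  have hCadd : ∀ a b, C (a + b) = C a + C b := fun a b => finj _ _ _ (by
    rw [hC]
    funext J
    refine Eq.trans ?_ (map_add (S.f.hom.app (op (cap U J))).hom _ _).symm
    rw [congrFun (hC a) J, congrFun (hC b) J]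
    exact congrFun (map_add (dd U S.X₂.obj 0) a.1 b.1) J)
  let φ₂ : W →+ sc.g.hom.ker ⧸ AddMonoidHom.range sc.abToCycles :=
    (QuotientAddGroup.mk' _).comp (AddMonoidHom.mk' (fun b => ⟨e₁.symm (C b), hz b⟩) fun a b =>
      Subtype.ext ((congrArg e₁.symm (hCadd a b)).trans (map_add e₁.symm _ _)))
  have h₂ : Function.Surjective φ₂ := fun q => by
    obtain ⟨z, rfl⟩ := QuotientAddGroup.mk_surjective q
    have hz0 : dd U S.X₁.obj 1 (e₁ z.1) = 0 := by
      refine (ev_d U S.X₁.obj 1 z.1).symm.trans ?_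
      exact (congrArg _ z.2).trans (map_zero _)
    obtain ⟨b, hb⟩ := SmDefLib.exists_of_cocycle_one U S.X₂ (fun J => S.f.hom.app (op (cap U J)) (e₁ z.1 J)) (by
      rw [← fdd, hz0]
      funext J
      exact map_zero _)
    have hbW : b ∈ W := by
      show dd U S.X₃.obj 0 (gC b) = 0
      funext J
      refine (SmDefLib.app_dd U S.X₂ S.g 0 b J).symm.trans ?_
      rw [hb]
      exact (congr_arg (fun φ : S.X₁ ⟶ S.X₃ => φ.hom.app (op (cap U J)) (e₁ z.1 J)) S.zero).trans rfl
    refine ⟨⟨b, hbW⟩, congrArg (QuotientAddGroup.mk (s := AddMonoidHom.range sc.abToCycles)) (Subtype.ext ?_)⟩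
    have : C ⟨b, hbW⟩ = e₁ z.1 := finj _ _ _ ((hC _).trans hb)
    exact (congrArg e₁.symm this).trans (e₁.symm_apply_apply _)
  have hker : φ₁.ker = φ₂.ker := by
    ext b
    simp only [AddMonoidHom.mem_ker]
    refine (QuotientAddGroup.eq_zero_iff _).trans (Iff.trans ?_ (QuotientAddGroup.eq_zero_iff _).symm)
    constructor
    · rintro ⟨t, ht⟩
      have h : ∀ J, ∃ y, S.f.hom.app (op (cap U J)) y = b.1 J - rs S.X₂.obj (cap_le_iSup U J) t := fun J => by
        refine CechLib.exists_of_app_eq_zero hS _ _ ?_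
        rw [map_sub, CechLib.app_rs, show S.g.hom.app _ t = R b from ht, sub_eq_zero]
        exact (congrFun (hR b) J).symm
      choose a ha using h
      refine ⟨(cochainEquiv U S.X₁.obj 0).symm a, Subtype.ext (e₁.injective ?_)⟩
      refine (ev_d U S.X₁.obj 0 _).trans ?_
      rw [AddEquiv.apply_symm_apply]
      refine Eq.trans ?_ (e₁.apply_symm_apply (C b)).symm
      refine finj _ _ _ ?_
      rw [fdd, hC]
      have hrt : dd U S.X₂.obj 0 (fun J => rs S.X₂.obj (cap_le_iSup U J) t) = 0 := by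
        rw [← show cochainEquiv U S.X₂.obj 0 (rho U S.X₂ t) = (fun J => rs S.X₂.obj (cap_le_iSup U J) t) from
          funext fun J => cochainEquiv_rho U S.X₂ t J, ← ev_d]
        exact (congrArg _ (ConcreteCategory.congr_hom (rho_d U S.X₂) t)).trans (map_zero _)
      rw [funext ha, show (fun J => b.1 J - rs S.X₂.obj (cap_le_iSup U J) t) =
        b.1 - (fun J => rs S.X₂.obj (cap_le_iSup U J) t) from rfl, map_sub, hrt, sub_zero]
    · rintro ⟨x, hx⟩
      let a := cochainEquiv U S.X₁.obj 0 x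
      have ha : dd U S.X₁.obj 0 a = C b := by
        refine (ev_d U S.X₁.obj 0 x).symm.trans ?_
        exact (congrArg e₁ (congrArg Subtype.val hx)).trans (e₁.apply_symm_apply _)
      obtain ⟨t, ht⟩ := exists_rho_eq U S.X₂ (b.1 - fun J => S.f.hom.app (op (cap U J)) (a J)) (by
        rw [map_sub, ← fdd, ha, hC, sub_self])
      refine ⟨t, hinj (funext fun J => ?_)⟩
      have htJ : rs S.X₂.obj (cap_le_iSup U J) t = b.1 J - S.f.hom.app (op (cap U J)) (a J) :=
        (cochainEquiv_rho U S.X₂ t J).symm.trans (congrFun ht J)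
      show rs S.X₃.obj (cap_le_iSup U J) (S.g.hom.app _ t) = rho' (R b) J
      rw [← CechLib.app_rs, htJ, map_sub, congrFun (hR b) J]
      refine (congrArg (S.g.hom.app (op (cap U J)) (b.1 J) - ·) ?_).trans (sub_zero _)
      exact (congr_arg (fun φ : S.X₁ ⟶ S.X₃ => φ.hom.app (op (cap U J)) (a J)) S.zero).trans rfl
  exact ⟨(QuotientAddGroup.quotientKerEquivOfSurjective φ₁ h₁).symm.trans
    ((QuotientAddGroup.quotientAddEquivOfEq hker).trans
      ((QuotientAddGroup.quotientKerEquivOfSurjective φ₂ h₂).trans eh.symm))⟩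

end CechDefoLib
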