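import Groth.Agent.CechDefoLib.Coker
import Groth.Agent.SmDefLib.Van
import Groth.Agent.LMLib.Dual
import Groth.Agent.FinLFAnnLib.Main
import Groth.Agent.DefoConnLib.ExtClass
import Groth.Prelude.Def_CohB1
import Groth.Prelude.Def_RefHull

/-!
# First order deformations of a module free on an affine cover and first Čech cohomology
-/

set_option autoImplicit false
set_option linter.style.haveILetI false
set_option linter.unusedSectionVars false
universe u

open CategoryTheory CategoryTheory.Limits AlgebraicGeometry TopologicalSpace Opposite Abelian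
open CohCmpLib (homMod)
open QCohLib (HU toAbF)

noncomputable section

namespace CechDefoLib

variable {X : Scheme.{u}}

theorem ofHom_add {M N : X.Modules} (φ ψ : M ⟶ N) :
    HomCohLib.ofHom (φ + ψ) = HomCohLib.ofHom φ + HomCohLib.ofHom ψ :=
  CohCmpLib.homMod_ext fun y hy => by
    show ((DerSch.stalkFunctor X y).map (φ + ψ)).hom = _
    rw [Functor.map_add]
    rfl

/-- Morphisms as global sections of the sheaf of homomorphisms. -/
def homEquiv (M N : X.Modules) : (M ⟶ N) ≃+ Γ(homMod M N, (⊤ : X.Opens)) where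
  toFun := HomCohLib.ofHom
  invFun := HomCohLib.toHom
  left_inv := HomCohLib.toHom_ofHom
  right_inv := HomCohLib.ofHom_toHom
  map_add' := ofHom_add

theorem nonempty_ext_equiv [HasExt.{u} X.Modules] {ι : Type u} (U : ι → X.Opens) (hU : ∀ i, IsAffineOpen (U i))
    (hcov : ⨆ i, U i = ⊤) {F : X.Modules} (hF : FlatMod.IsFinLocFree F) (W : X.Modules) [Coh.IsQCoh W] :
    Nonempty (Ext.{u} F W 1 ≃+ (CechLib.cx U ((toAbF X).obj (homMod F W)).obj).homology 1) := by
  haveI : EnoughInjectives X.Modules := ModSiteLib.sheafOfModules_enoughInjectives (R := X.ringCatSheaf)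
  let T : ShortComplex X.Modules := ShortComplex.mk (Injective.ι W) (cokernel.π _) (cokernel.condition _)
  have hT : T.ShortExact := ShortComplex.ShortExact.mk (ShortComplex.exact_cokernel _)
  haveI : Injective T.X₂ := inferInstanceAs (Injective (Injective.under W))
  haveI : Injective (PnDualLib.homSeq F T).X₂ := PnDualLib.injective_homMod hF T.X₂
  have hS := QCohLib.toAbF_shortExact (PnDualLib.homSeq_shortExact hF hT)
  haveI := RpushLib.isFlasque_toAb_injective (PnDualLib.homSeq F T).X₂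
  haveI : Coh.IsQCoh (homMod F W) := BoxSurjLib.isQCoh_homMod hF
  obtain ⟨e⟩ := nonempty_coker_equiv U hS ⊤ hcov (fun i => QCohLib.subsingleton_HU_affine (homMod F W) 0 (hU i))
    (QCohLib.subsingleton_of_isFlasque 0 ((toAbF X).obj (PnDualLib.homSeq F T).X₂) ⊤)
  let ψ : (F ⟶ T.X₃) →+ Ext.{u} F W 1 :=
    AddMonoidHom.mk' (fun f => (Ext.mk₀ f).comp hT.extClass (zero_add 1)) fun a b => by
      rw [Ext.mk₀_add, Ext.add_comp]
  have hψ : Function.Surjective ψ := fun y => by
    obtain ⟨z, hz⟩ := Ext.covariant_sequence_exact₁ F hT y (Ext.eq_zero_of_injective _) (zero_add 1)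
    obtain ⟨f, rfl⟩ := (Ext.mk₀_bijective _ _).2 z
    exact ⟨f, hz⟩
  let R : AddSubgroup Γ(homMod F T.X₃, (⊤ : X.Opens)) :=
    ((((PnDualLib.homSeq F T).map (toAbF X)).g.hom.app (op (⊤ : X.Opens)))).hom.range
  have hk : AddSubgroup.map (homEquiv F T.X₃).toAddMonoidHom ψ.ker = R := by
    ext s
    constructor
    · rintro ⟨f, hf, rfl⟩
      obtain ⟨z, hz⟩ := Ext.covariant_sequence_exact₃ F hT (Ext.mk₀ f) (zero_add 1) hf
      obtain ⟨g, rfl⟩ := (Ext.mk₀_bijective _ _).2 z
      rw [Ext.mk₀_comp_mk₀] at hz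
      exact ⟨HomCohLib.ofHom g, (HomCohLib.ofHom_comp g T.g).trans
        (congrArg HomCohLib.ofHom ((Ext.mk₀_bijective _ _).1 hz))⟩
    · rintro ⟨t, rfl⟩
      refine ⟨HomCohLib.toHom t ≫ T.g, ?_, ?_⟩
      · show (Ext.mk₀ (HomCohLib.toHom t ≫ T.g)).comp hT.extClass (zero_add 1) = 0
        rw [← Ext.mk₀_comp_mk₀, Ext.comp_assoc_of_second_deg_zero, hT.comp_extClass, Ext.comp_zero]
      · exact ((HomCohLib.ofHom_comp (HomCohLib.toHom t) T.g).symm).trans
          (congrArg _ (HomCohLib.ofHom_toHom t))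
  exact ⟨(QuotientAddGroup.quotientKerEquivOfSurjective ψ hψ).symm.trans
    ((QuotientAddGroup.congr ψ.ker R (homEquiv F T.X₃) hk).trans e)⟩

/-- First order deformations as first Čech cohomology. -/
theorem exists_equiv (k : Type u) [Field k] [X.Over (Spec (CommRingCat.of k))] {ι : Type u} (U : ι → X.Opens)
    (hU : ∀ i, IsAffineOpen (U i)) (hcov : ⨆ i, U i = ⊤) {E : X.Modules} (hE : FlatMod.IsFinLocFree E) :
    ∃ e : DefoSh.FirstOrder k E ≃ ↑(CohB1.cechH U (RefHull.homSh E E) 1),
      e (DefoSh.Defo.trivDual k E).cl = 0 := by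
  haveI : EnoughInjectives X.Modules := ModSiteLib.sheafOfModules_enoughInjectives (R := X.ringCatSheaf)
  haveI : HasExt.{u} X.Modules := hasExt_of_enoughInjectives.{u} _
  haveI : Coh.IsQCoh E := FinLFAnn.isQCoh_of_isFinLocFree hE
  obtain ⟨e₁, he₁, -⟩ := DefoConnLib.exists_equiv_ext (k := k) (E := E)
  obtain ⟨e₂⟩ := nonempty_ext_equiv U hU hcov hE E
  let i₀ : ((toAbF X).obj (homMod E E)).obj ≅ (RefHull.homSh E E).presheaf :=
    (Scheme.Modules.toPresheaf X).mapIso (LMLib.homShIso E E).symm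
  let e₃ : (CechLib.cx U ((toAbF X).obj (homMod E E)).obj).homology 1 ≃+ ↑(CohB1.cechH U (RefHull.homSh E E) 1) :=
    ((HomologicalComplex.homologyFunctor _ _ 1).mapIso
      ((cechComplexFunctor (A := AddCommGrpCat.{u}) U).mapIso i₀)).addCommGroupIsoToAddEquiv
  refine ⟨e₁.trans (e₂.trans e₃).toEquiv, ?_⟩
  show (e₂.trans e₃) (e₁ _) = 0
  rw [he₁, map_zero]

end CechDefoLib
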